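import Mathlib.AlgebraicGeometry.Gluing
import Mathlib.AlgebraicGeometry.AffineScheme
import Mathlib.AlgebraicGeometry.Morphisms.ClosedImmersion

set_option autoImplicit false
set_option backward.isDefEq.respectTransparency.types false

/-! A square of closed immersions that is jointly surjective, topologically cartesian and a fibre
product on sections over a basis of opens is a pushout of schemes. -/

noncomputable section

universe u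

open CategoryTheory Limits AlgebraicGeometry TopologicalSpace

namespace Groth.Agent.ClPush72

lemma toSpecΓ_appLE_fromSpec {U T : Scheme.{u}} (g : U ⟶ T) {V : T.Opens} (hV : IsAffineOpen V)
    (e : ⊤ ≤ g ⁻¹ᵁ V) : U.toSpecΓ ≫ Spec.map (g.appLE V ⊤ e) ≫ hV.fromSpec = g := by
  haveI : IsIso (⊤ : U.Opens).ι := inferInstanceAs (IsIso U.topIso.hom)
  rw [← cancel_epi (⊤ : U.Opens).ι, ← Category.assoc, ← Scheme.Opens.toSpecΓ_top,
    Scheme.Opens.toSpecΓ_SpecMap_appLE_assoc, hV.toSpecΓ_fromSpec, Scheme.Hom.resLE_comp_ι]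

section

variable {P Z Y W : Scheme.{u}} (p : P ⟶ Z) (q : P ⟶ Y) (a : Z ⟶ W) (b : Y ⟶ W)
  (w : p ≫ a = q ≫ b)

/-- Sections over `U` are the fibre product of the sections on the two pieces. -/
def IsFibreProdOn (U : W.Opens) : Prop :=
  ∀ (z : Γ(Z, a ⁻¹ᵁ U)) (y : Γ(Y, b ⁻¹ᵁ U)) (R : P.Opens) (e₁ : R ≤ p ⁻¹ᵁ (a ⁻¹ᵁ U))
    (e₂ : R ≤ q ⁻¹ᵁ (b ⁻¹ᵁ U)), R = p ⁻¹ᵁ (a ⁻¹ᵁ U) →
      p.appLE _ R e₁ z = q.appLE _ R e₂ y → ∃! s : Γ(W, U), a.app U s = z ∧ b.app U s = y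

lemma preimage_eq (w : p ≫ a = q ≫ b) (U : W.Opens) :
    p ⁻¹ᵁ (a ⁻¹ᵁ U) = q ⁻¹ᵁ (b ⁻¹ᵁ U) := by
  rw [← Scheme.Hom.comp_preimage, ← Scheme.Hom.comp_preimage, w]

variable {p q a b}

lemma IsFibreProdOn.app_injective {U : W.Opens} (hU : IsFibreProdOn p q a b U)
    (w : p ≫ a = q ≫ b) {s t : Γ(W, U)} (ha : a.app U s = a.app U t) (hb : b.app U s = b.app U t) :
    s = t := by
  refine (hU (a.app U t) (b.app U t) _ le_rfl (preimage_eq p q a b w U).le rfl ?_).unique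
    ⟨ha, hb⟩ ⟨rfl, rfl⟩
  simp only [← CommRingCat.comp_apply, Scheme.Hom.app_eq_appLE, Scheme.Hom.appLE_comp_appLE, w]

lemma hom_ext_on {T : Scheme.{u}} (w : p ≫ a = q ≫ b) {U : W.Opens}
    (hU : IsFibreProdOn p q a b U) (f g : U.toScheme ⟶ T) {V : T.Opens} (hV : IsAffineOpen V)
    (ef : ⊤ ≤ f ⁻¹ᵁ V) (eg : ⊤ ≤ g ⁻¹ᵁ V)
    (ha : (a ∣_ U) ≫ f = (a ∣_ U) ≫ g) (hb : (b ∣_ U) ≫ f = (b ∣_ U) ≫ g) : f = g := by
  rw [← toSpecΓ_appLE_fromSpec f hV ef, ← toSpecΓ_appLE_fromSpec g hV eg]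
  suffices h : f.appLE V ⊤ ef = g.appLE V ⊤ eg by rw [h]
  have hU' : IsFibreProdOn p q a b (U.ι ''ᵁ ⊤) := by rwa [Scheme.Opens.ι_image_top]
  have key : ∀ {S : Scheme.{u}} (c : S ⟶ W), (c ∣_ U) ≫ f = (c ∣_ U) ≫ g →
      ∀ x, c.app (U.ι ''ᵁ ⊤) (f.appLE V ⊤ ef x) = c.app (U.ι ''ᵁ ⊤) (g.appLE V ⊤ eg x) := by
    intro S c hc x
    have h1 : f.appLE V ⊤ ef ≫ (c ∣_ U).app ⊤ = g.appLE V ⊤ eg ≫ (c ∣_ U).app ⊤ := by
      simp only [Scheme.Hom.app_eq_appLE, Scheme.Hom.appLE_comp_appLE, hc]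
    rw [morphismRestrict_app] at h1
    exact (ConcreteCategory.bijective_of_isIso (S.presheaf.map
      (eqToHom (image_morphismRestrict_preimage c U ⊤)).op)).1 congr($h1 x)
  ext x
  exact hU'.app_injective w (key a ha x) (key b hb x)

variable [IsClosedImmersion a] [IsClosedImmersion b]
  (hcov : Set.range a ∪ Set.range b = Set.univ)
  (hint : ∀ (z : Z) (y : Y), a z = b y → ∃ x, p x = z ∧ q x = y)
  (hloc : ∀ (x : W) (O : W.Opens), x ∈ O → ∃ U : W.Opens, x ∈ U ∧ U ≤ O ∧ IsFibreProdOn p q a b U)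

include w hcov hloc in
lemma hom_ext_opens {T : Scheme.{u}} (O : W.Opens) (f g : O.toScheme ⟶ T)
    (ha : (a ∣_ O) ≫ f = (a ∣_ O) ≫ g) (hb : (b ∣_ O) ≫ f = (b ∣_ O) ≫ g) : f = g := by
  have hbase : ∀ x : O, f x = g x := by
    intro x
    rcases hcov.ge (Set.mem_univ x.1) with ⟨z, hz⟩ | ⟨y, hy⟩
    · have hx : (a ∣_ O) ⟨z, show a z ∈ O from hz ▸ x.2⟩ = x :=
        Subtype.ext ((morphismRestrict_base_coe _ _ _).trans hz)
      rw [← hx, ← Scheme.Hom.comp_apply, ← Scheme.Hom.comp_apply, ha]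
    · have hx : (b ∣_ O) ⟨y, show b y ∈ O from hy ▸ x.2⟩ = x :=
        Subtype.ext ((morphismRestrict_base_coe _ _ _).trans hy)
      rw [← hx, ← Scheme.Hom.comp_apply, ← Scheme.Hom.comp_apply, hb]
  refine Scheme.hom_ext_of_forall f g fun x => ?_
  obtain ⟨_, ⟨V, hV, rfl⟩, hxV, -⟩ :=
    T.isBasis_affineOpens.exists_subset_of_mem_open (Set.mem_univ (f x)) isOpen_univ
  obtain ⟨U, hxU, hUle, hU⟩ := hloc x.1 (O.ι ''ᵁ (f ⁻¹ᵁ V ⊓ g ⁻¹ᵁ V))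
    ⟨x, ⟨hxV, (hbase x ▸ hxV : g x ∈ V)⟩, rfl⟩
  have hUO : U ≤ O := hUle.trans (O.ι_image_le _)
  refine ⟨O.ι ⁻¹ᵁ U, hxU, ?_⟩
  have hι : (O.ι ∣_ U) ≫ W.homOfLE hUO = (O.ι ⁻¹ᵁ U).ι := by simp [← cancel_mono O.ι]
  rw [← hι, Category.assoc, Category.assoc]
  congr 1
  have hm : ∀ y : U.toScheme, W.homOfLE hUO y ∈ f ⁻¹ᵁ V ⊓ g ⁻¹ᵁ V := fun y => by
    obtain ⟨z, hz, hzy⟩ := hUle y.2
    have he : W.homOfLE hUO y = z := Subtype.ext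
      ((congr($(Scheme.homOfLE_ι W hUO) y)).trans hzy.symm)
    rw [he]
    exact hz
  refine hom_ext_on w hU _ _ hV (fun y _ => (hm y).1) (fun y _ => (hm y).2) ?_ ?_
  · rw [morphismRestrict_homOfLE_assoc, morphismRestrict_homOfLE_assoc, ha]
  · rw [morphismRestrict_homOfLE_assoc, morphismRestrict_homOfLE_assoc, hb]

include w in
lemma exists_on {T : Scheme.{u}} (g₁ : Z ⟶ T) (g₂ : Y ⟶ T) (hg : p ≫ g₁ = q ≫ g₂)
    {U : W.Opens} (hU : IsFibreProdOn p q a b U) {V : T.Opens} (hV : IsAffineOpen V)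
    (e₁ : a ⁻¹ᵁ U ≤ g₁ ⁻¹ᵁ V) (e₂ : b ⁻¹ᵁ U ≤ g₂ ⁻¹ᵁ V) :
    ∃ m : U.toScheme ⟶ T, (a ∣_ U) ≫ m = (a ⁻¹ᵁ U).ι ≫ g₁ ∧
      (b ∣_ U) ≫ m = (b ⁻¹ᵁ U).ι ≫ g₂ := by
  have hc : ∀ x : Γ(T, V), p.appLE _ (p ⁻¹ᵁ (a ⁻¹ᵁ U)) le_rfl (g₁.appLE V _ e₁ x) =
      q.appLE _ (p ⁻¹ᵁ (a ⁻¹ᵁ U)) (preimage_eq p q a b w U).le (g₂.appLE V _ e₂ x) := by
    intro x
    simp only [← CommRingCat.comp_apply, Scheme.Hom.appLE_comp_appLE, hg]
  choose φ hφ _ using fun x => hU _ _ _ _ _ rfl (hc x)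
  have hinj : ∀ {s t : Γ(W, U)}, a.app U s = a.app U t → b.app U s = b.app U t → s = t :=
    fun h h' => hU.app_injective w h h'
  let Φ : Γ(T, V) ⟶ Γ(W, U) := CommRingCat.ofHom
    { toFun := φ
      map_one' := hinj (by simp [(hφ 1).1]) (by simp [(hφ 1).2])
      map_zero' := hinj (by simp [(hφ 0).1]) (by simp [(hφ 0).2])
      map_mul' := fun x y => hinj
        (by simp [(hφ x).1, (hφ y).1, (hφ (x * y)).1])
        (by simp [(hφ x).2, (hφ y).2, (hφ (x * y)).2])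
      map_add' := fun x y => hinj
        (by simp [(hφ x).1, (hφ y).1, (hφ (x + y)).1])
        (by simp [(hφ x).2, (hφ y).2, (hφ (x + y)).2]) }
  have h₁ : Φ ≫ a.app U = g₁.appLE V _ e₁ := by ext x; exact (hφ x).1
  have h₂ : Φ ≫ b.app U = g₂.appLE V _ e₂ := by ext x; exact (hφ x).2
  refine ⟨U.toSpecΓ ≫ Spec.map Φ ≫ hV.fromSpec, ?_, ?_⟩
  · rw [← Category.assoc, ← Scheme.Opens.toSpecΓ_naturality, Category.assoc,
      ← Spec.map_comp_assoc, h₁, Scheme.Opens.toSpecΓ_SpecMap_appLE_assoc,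
      hV.toSpecΓ_fromSpec, Scheme.Hom.resLE_comp_ι]
  · rw [← Category.assoc, ← Scheme.Opens.toSpecΓ_naturality, Category.assoc,
      ← Spec.map_comp_assoc, h₂, Scheme.Opens.toSpecΓ_SpecMap_appLE_assoc,
      hV.toSpecΓ_fromSpec, Scheme.Hom.resLE_comp_ι]

include hint hcov in
lemma exists_nhd {T : Scheme.{u}} (g₁ : Z ⟶ T) (g₂ : Y ⟶ T) (hg : p ≫ g₁ = q ≫ g₂) (x : W) :
    ∃ (V : T.Opens) (O : W.Opens), IsAffineOpen V ∧ x ∈ O ∧ a ⁻¹ᵁ O ≤ g₁ ⁻¹ᵁ V ∧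
      b ⁻¹ᵁ O ≤ g₂ ⁻¹ᵁ V := by
  suffices ∃ t : T, (∀ z, a z = x → g₁ z = t) ∧ ∀ y, b y = x → g₂ y = t by
    obtain ⟨t, ht₁, ht₂⟩ := this
    obtain ⟨_, ⟨V, hV, rfl⟩, htV, -⟩ :=
      T.isBasis_affineOpens.exists_subset_of_mem_open (Set.mem_univ t) isOpen_univ
    let O : W.Opens := ⟨(a '' ((g₁ ⁻¹ᵁ V : Z.Opens) : Set Z)ᶜ ∪
        b '' ((g₂ ⁻¹ᵁ V : Y.Opens) : Set Y)ᶜ)ᶜ,
      ((a.isClosedEmbedding.isClosedMap _ (g₁ ⁻¹ᵁ V).2.isClosed_compl).union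
        (b.isClosedEmbedding.isClosedMap _ (g₂ ⁻¹ᵁ V).2.isClosed_compl)).isOpen_compl⟩
    refine ⟨V, O, hV, ?_, fun z hz => ?_, fun y hy => ?_⟩
    · rintro (⟨z, hz, hzx⟩ | ⟨y, hy, hyx⟩)
      · exact hz (show g₁ z ∈ V from ht₁ z hzx ▸ htV)
      · exact hy (show g₂ y ∈ V from ht₂ y hyx ▸ htV)
    · by_contra hzV
      exact hz (Or.inl ⟨z, hzV, rfl⟩)
    · by_contra hyV
      exact hy (Or.inr ⟨y, hyV, rfl⟩)
  have key : ∀ z y, a z = x → b y = x → g₁ z = g₂ y := by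
    intro z y hz hy
    obtain ⟨r, rfl, rfl⟩ := hint z y (hz.trans hy.symm)
    rw [← Scheme.Hom.comp_apply, ← Scheme.Hom.comp_apply, hg]
  rcases hcov.ge (Set.mem_univ x) with ⟨z, hz⟩ | ⟨y, hy⟩
  · exact ⟨g₁ z, fun z' hz' => by rw [a.isClosedEmbedding.injective (hz'.trans hz.symm)],
      fun y hy => (key z y hz hy).symm⟩
  · exact ⟨g₂ y, fun z hz => key z y hz hy,
      fun y' hy' => by rw [b.isClosedEmbedding.injective (hy'.trans hy.symm)]⟩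

include w hcov hint hloc in
lemma exists_desc {T : Scheme.{u}} (g₁ : Z ⟶ T) (g₂ : Y ⟶ T) (hg : p ≫ g₁ = q ≫ g₂) :
    ∃ m : W ⟶ T, a ≫ m = g₁ ∧ b ≫ m = g₂ := by
  have : ∀ x : W, ∃ (U : W.Opens) (m : U.toScheme ⟶ T), x ∈ U ∧
      (a ∣_ U) ≫ m = (a ⁻¹ᵁ U).ι ≫ g₁ ∧ (b ∣_ U) ≫ m = (b ⁻¹ᵁ U).ι ≫ g₂ := by
    intro x
    obtain ⟨V, O, hV, hxO, e₁, e₂⟩ := exists_nhd hcov hint g₁ g₂ hg x
    obtain ⟨U, hxU, hUO, hU⟩ := hloc x O hxO
    obtain ⟨m, hm⟩ := exists_on w g₁ g₂ hg hU hV ((a.preimage_mono hUO).trans e₁)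
      ((b.preimage_mono hUO).trans e₂)
    exact ⟨U, m, hxU, hm⟩
  choose U m hxU hm₁ hm₂ using this
  let 𝒰 := W.openCoverOfIsOpenCover U
    (TopologicalSpace.IsOpenCover.mk (eq_top_iff.mpr fun x _ =>
      Opens.mem_iSup.mpr ⟨x, hxU x⟩))
  have hcompat : ∀ i j : W,
      pullback.fst (U i).ι (U j).ι ≫ m i = pullback.snd (U i).ι (U j).ι ≫ m j := by
    intro i j
    have h : W.homOfLE (inf_le_left : U i ⊓ U j ≤ U i) ≫ m i =
        W.homOfLE (inf_le_right : U i ⊓ U j ≤ U j) ≫ m j := by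
      refine hom_ext_opens w hcov hloc _ _ _ ?_ ?_
      · rw [morphismRestrict_homOfLE_assoc, morphismRestrict_homOfLE_assoc, hm₁, hm₁,
          ← Category.assoc, ← Category.assoc, Scheme.homOfLE_ι, Scheme.homOfLE_ι]
      · rw [morphismRestrict_homOfLE_assoc, morphismRestrict_homOfLE_assoc, hm₂, hm₂,
          ← Category.assoc, ← Category.assoc, Scheme.homOfLE_ι, Scheme.homOfLE_ι]
    rw [← cancel_epi (isPullback_opens_inf (U i) (U j)).isoPullback.hom]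
    simpa using h
  refine ⟨𝒰.glueMorphisms m hcompat, ?_, ?_⟩
  · refine Scheme.hom_ext_of_forall _ _ fun z => ⟨a ⁻¹ᵁ U (a z), hxU (a z), ?_⟩
    rw [← morphismRestrict_ι_assoc]
    exact (congrArg (_ ≫ ·) (𝒰.ι_glueMorphisms m hcompat (a z))).trans (hm₁ (a z))
  · refine Scheme.hom_ext_of_forall _ _ fun y => ⟨b ⁻¹ᵁ U (b y), hxU (b y), ?_⟩
    rw [← morphismRestrict_ι_assoc]
    exact (congrArg (_ ≫ ·) (𝒰.ι_glueMorphisms m hcompat (b y))).trans (hm₂ (b y))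

include w hcov hint hloc in
theorem isPushout_of_isFibreProdOn : IsPushout p q a b := by
  refine ⟨⟨w⟩, ⟨PushoutCocone.IsColimit.mk _
    (fun s => (exists_desc w hcov hint hloc s.inl s.inr s.condition).choose)
    (fun s => (exists_desc w hcov hint hloc s.inl s.inr s.condition).choose_spec.1)
    (fun s => (exists_desc w hcov hint hloc s.inl s.inr s.condition).choose_spec.2)
    fun s m h₁ h₂ => ?_⟩⟩
  have h := (exists_desc w hcov hint hloc s.inl s.inr s.condition).choose_spec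
  haveI : IsIso (⊤ : W.Opens).ι := inferInstanceAs (IsIso W.topIso.hom)
  rw [← cancel_epi (⊤ : W.Opens).ι]
  refine hom_ext_opens w hcov hloc _ _ _ ?_ ?_
  · rw [morphismRestrict_ι_assoc, morphismRestrict_ι_assoc, h₁, h.1]
  · rw [morphismRestrict_ι_assoc, morphismRestrict_ι_assoc, h₂, h.2]

end

end Groth.Agent.ClPush72
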